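import Cfsg.Agent.H10.Fi23T.G5.RTab

set_option autoImplicit false
set_option linter.all false

namespace Cfsg.Agent.H10.Fi23T

open Cfsg.Agent.H35 Cfsg.Spor

theorem g5_rchk_4 : allR g5_rf 11520 10 (4 * 2 ^ 10) = true := by decide +kernel
theorem g5_rchk_5 : allR g5_rf 11520 10 (5 * 2 ^ 10) = true := by decide +kernel

end Cfsg.Agent.H10.Fi23T
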