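import Cfsg.Agent.H10.Fi23T.G5.RChk0
import Cfsg.Agent.H10.Fi23T.G5.RChk1
import Cfsg.Agent.H10.Fi23T.G5.RChk2
import Cfsg.Agent.H10.Fi23T.G5.RChk3
import Cfsg.Agent.H10.Fi23T.G5.RChk4
import Cfsg.Agent.H10.Fi23T.G5.RChk5

set_option autoImplicit false
set_option linter.all false

namespace Cfsg.Agent.H10.Fi23T

open Cfsg.Agent.H35 Cfsg.Spor

theorem g5_rall : ∀ p, p < 11520 → g5_rf p = true := by
  apply allR_blocks g5_rf 11520 10 12 _ (by decide)
  intro k hk
  interval_cases k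
  · exact g5_rchk_0
  · exact g5_rchk_1
  · exact g5_rchk_2
  · exact g5_rchk_3
  · exact g5_rchk_4
  · exact g5_rchk_5
  · exact g5_rchk_6
  · exact g5_rchk_7
  · exact g5_rchk_8
  · exact g5_rchk_9
  · exact g5_rchk_10
  · exact g5_rchk_11

theorem g5_circ_ok : circChk (fullW g5_rws g5_prels) g5_circT 0 g5_ccert = true := by decide +kernel
theorem g5_hc_ok : allR (fun c => hcChk g5_rsw g5_hc1T g5_hc2T c) 0 0 0 = true := by decide +kernel
theorem g5_h0 : RData.aord (g5_rd.ent 0 1) = 0 := by decide +kernel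

end Cfsg.Agent.H10.Fi23T
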